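import Groth.Agent.ResProp.EF.Arch
import Groth.Agent.ResProp.EF.K940.Bc
import Groth.Agent.ResProp.EF.X56.ChartF

/-!
# Seam `Arch.SObj` ⇒ `Comod A`: objects, morphisms, complexes, exactness

* `cm X : Comod A`, `cmHom f : cm X ⟶ cm X'` for `f : X.Hom X'`;
* `cmCx K d dd : CochainComplex (Comod A) ℤ` and `usCmCx : (chartF A).usC.obj (cmCx K d dd) ≅ chartCx K d dd`;
* `strictlyGE / strictlyLE` from `bdd`.
-/

set_option autoImplicit false
set_option linter.dupNamespace false
set_option linter.style.haveILetI false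

open CategoryTheory CategoryTheory.Limits Opposite TensorProduct HomologicalComplex

noncomputable section

namespace Groth.Agent.ResProp.EF.K494.Seam

open K784.BC K784.PM K741.RP EF56 K294 Grp Arch K940

universe u

variable {k : Type u} [CommRing k] {A : NFᵒᵖ ⥤ CommRingCat.{u}} [GRF k A]
variable {E : Gp k} {P : Type u} [CommRing P] [Algebra (A.obj (op ⟨0⟩)) P]

/-- the comodule underlying an `SObj` -/
def cm (X : SObj k A E P) : Comod A := mkC X.M X.cart

/-- the morphism of comodules underlying a morphism -/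
def cmHom {X X' : SObj k A E P} (f : X.Hom X') : cm X ⟶ cm X' :=
  homC (M := cm X) (N := cm X') f.f fun _ _ φ e => f.nat φ e

theorem cmp_cmHom {X X' : SObj k A E P} (f : X.Hom X') (a : NF) : cmp (cmHom f) a = f.f a := rfl

variable [hA : Fact (GR A)]

/-- morphisms of comodules are determined on the chart -/
theorem hom_ext_chart {M N : Comod A} {f g : M ⟶ N} (h : cmp f ⟨0⟩ = cmp g ⟨0⟩) : f = g := by
  haveI := (chartF A).faithful_us
  apply (chartF A).us.map_injective
  exact ModuleCat.hom_ext h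

theorem cmHom_comp_zero {X X' X'' : SObj k A E P} (f : X.Hom X') (g : X'.Hom X'')
    (h : ∀ m, g.f ⟨0⟩ (f.f ⟨0⟩ m) = 0) : cmHom f ≫ cmHom g = 0 :=
  hom_ext_chart (LinearMap.ext h)

section Cx

variable (K : ℤ → SObj k A E P) (d : ∀ n : ℤ, (K n).Hom (K (n + 1)))
  (dd : ∀ (n : ℤ) (m : (K n).M.obj ⟨0⟩), (d (n + 1)).f ⟨0⟩ ((d n).f ⟨0⟩ m) = 0)

/-- the complex of comodules -/
def cmCx : CochainComplex (Comod A) ℤ :=
  CochainComplex.of (fun n => cm (K n)) (fun n => cmHom (d n)) fun n => cmHom_comp_zero _ _ (dd n)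

/-- the object of the chart complex -/
def usIso (n : ℤ) : ((chartF A).usC.obj (cmCx K d dd)).X n ≅ (chartCx K d dd).X n := Iso.refl _

/-- on the chart, `cmCx` is `chartCx` -/
def usCmCx : (chartF A).usC.obj (cmCx K d dd) ≅ chartCx K d dd :=
  HomologicalComplex.Hom.isoOfComponents (fun n => usIso K d dd n) (by
    intro i j hij
    have hij' : i + 1 = j := hij
    subst hij'
    have h1 : (cmCx K d dd).d i (i + 1) = cmHom (d i) :=
      CochainComplex.of_d (fun n => cm (K n)) (fun n => cmHom (d n)) i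
    have h2 : (chartCx K d dd).d i (i + 1) = ModuleCat.ofHom ((d i).f ⟨0⟩) :=
      CochainComplex.of_d (fun n => ModuleCat.of (A.obj (op ⟨0⟩)) ((K n).M.obj ⟨0⟩))
        (fun n => ModuleCat.ofHom ((d n).f ⟨0⟩)) i
    have h3 : ((chartF A).usC.obj (cmCx K d dd)).d i (i + 1) = (chartF A).us.map ((cmCx K d dd).d i (i + 1)) := rfl
    rw [h3, h1, h2]
    rfl)

theorem isZero_cm (X : SObj k A E P) (h : Subsingleton (X.M.obj ⟨0⟩)) : IsZero (cm X) := by
  rw [IsZero.iff_id_eq_zero]
  apply hom_ext_chart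
  exact LinearMap.ext fun m => @Subsingleton.elim _ h _ _

theorem isStrictlyGE_cmCx (a : ℤ) (h : ∀ n : ℤ, n < a → Subsingleton ((K n).M.obj ⟨0⟩)) :
    (cmCx K d dd).IsStrictlyGE a := by
  rw [CochainComplex.isStrictlyGE_iff]
  exact fun n hn => isZero_cm (K n) (h n hn)

theorem isStrictlyLE_cmCx (b : ℤ) (h : ∀ n : ℤ, b < n → Subsingleton ((K n).M.obj ⟨0⟩)) :
    (cmCx K d dd).IsStrictlyLE b := by
  rw [CochainComplex.isStrictlyLE_iff]
  exact fun n hn => isZero_cm (K n) (h n hn)

theorem torGE_usC_cmCx {a : ℤ} (h : TorGE a (chartCx K d dd)) : TorGE a ((chartF A).usC.obj (cmCx K d dd)) :=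
  h.of_iso (usCmCx K d dd).symm

/-- multiplication by `q` on a module over `P` and `R` -/
def smulP (X : SObj k A E P) (q : P) : X.M.obj ⟨0⟩ →ₗ[A.obj (op ⟨0⟩)] X.M.obj ⟨0⟩ where
  toFun m := q • m
  map_add' := smul_add q
  map_smul' r m := by
    change q • r • m = r • q • m
    rw [← algebraMap_smul P r m, ← algebraMap_smul P r (q • m), smul_smul, smul_smul, mul_comm]

/-- `q : P` acts on the chart complex -/
def actP (q : P) : chartCx K d dd ⟶ chartCx K d dd where
  f n := ModuleCat.ofHom (smulP (K n) q)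
  comm' i j hij := by
    have hij' : i + 1 = j := hij
    subst hij'
    have h2 : (chartCx K d dd).d i (i + 1) = ModuleCat.ofHom ((d i).f ⟨0⟩) :=
      CochainComplex.of_d (fun n => ModuleCat.of (A.obj (op ⟨0⟩)) ((K n).M.obj ⟨0⟩))
        (fun n => ModuleCat.ofHom ((d n).f ⟨0⟩)) i
    rw [h2]
    apply ModuleCat.hom_ext
    exact LinearMap.ext fun m => (d i).pl q m

omit hA in
theorem actP_one : actP K d dd 1 = 𝟙 _ := by
  ext n m
  exact one_smul P (show (K n).M.obj ⟨0⟩ from m)

omit hA in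
theorem actP_mul (q q' : P) : actP K d dd (q * q') = actP K d dd q' ≫ actP K d dd q := by
  ext n m
  exact mul_smul q q' (show (K n).M.obj ⟨0⟩ from m)

omit hA in
theorem actP_add (q q' : P) : actP K d dd (q + q') = actP K d dd q + actP K d dd q' := by
  ext n m
  exact add_smul q q' (show (K n).M.obj ⟨0⟩ from m)

omit hA in
theorem actP_zero : actP K d dd 0 = 0 := by
  ext n m
  exact zero_smul P (show (K n).M.obj ⟨0⟩ from m)

/-- the action as a ring homomorphism -/
def actPHom : P →+* End (chartCx K d dd) where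
  toFun := actP K d dd
  map_one' := actP_one K d dd
  map_mul' q q' := actP_mul K d dd q q'
  map_zero' := actP_zero K d dd
  map_add' := actP_add K d dd

end Cx

/-- exactness of `SObj`'s in `Comod A` -/
theorem shortExact_cm {X' X X'' : SObj k A E P} (i : X'.Hom X) (q : X.Hom X'') (hi : Function.Injective (i.f ⟨0⟩))
    (he : Function.Exact (i.f ⟨0⟩) (q.f ⟨0⟩)) (hq : Function.Surjective (q.f ⟨0⟩)) :
    (ShortComplex.mk (cmHom i) (cmHom q) (cmHom_comp_zero i q fun m => (he _).2 ⟨m, rfl⟩)).ShortExact := by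
  haveI := (chartF A).faithful_us
  haveI := (chartF A).exact_us
  haveI := (chartF A).additive_us
  refine ShortComplex.ShortExact.mk' ?_ ?_ ?_
  · refine (ShortComplex.exact_map_iff_of_faithful _ (chartF A).us).1 ?_
    exact (ShortComplex.ShortExact.moduleCat_exact_iff_function_exact _).2 he
  · refine (chartF A).us.mono_of_mono_map ?_
    exact (ModuleCat.mono_iff_injective _).2 hi
  · refine (chartF A).us.epi_of_epi_map ?_
    exact (ModuleCat.epi_iff_surjective _).2 hq

end Groth.Agent.ResProp.EF.K494.Seam
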