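import Groth.Agent.ResProp.EF.K967.ChartGO
import Groth.Agent.ResProp.EF.K671.Done
import Groth.Agent.ResProp.EF.K671.Seam

/-!
# Seam `Arch.KernelDatum` ⇒ complexes of comodules over `R ⊗ O(E)` on the chart

* `meObj X`, `meHom f`, `meCx K d dd : CochainComplex (GO R (R ⊗[k] E.O)).Coalgebra ℤ`;
* `kernel_chart` : finiteness and vanishing of `H^m(E, H^j(Kf ⊗ N) ⊗ F)` for every flat model `Kf` of `meCx K`.
-/

set_option autoImplicit false
set_option linter.dupNamespace false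
set_option linter.style.haveILetI false

open CategoryTheory CategoryTheory.Limits Opposite TensorProduct HomologicalComplex

noncomputable section

namespace Groth.Agent.ResProp.EF.K494.Seam

open K784.BC K784.PM K741.RP EF56 K294 Grp Arch K967 K496 K671

universe u

variable {k : Type u} [CommRing k] {A : NFᵒᵖ ⥤ CommRingCat.{u}} [GRF k A]

/-- the ring `O(E)` over `R` -/
abbrev OR (A : NFᵒᵖ ⥤ CommRingCat.{u}) [GRF k A] (E : Gp k) : Type u := (A.obj (op ⟨0⟩) : Type u) ⊗[k] E.O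

/-- comodules over `R ⊗ O(E)` -/
abbrev ME (A : NFᵒᵖ ⥤ CommRingCat.{u}) [GRF k A] (E : Gp k) :=
  (GO (A.obj (op ⟨0⟩)) (OR A E)).Coalgebra

instance flat_OR (E : Gp k) : Module.Flat (A.obj (op ⟨0⟩)) (OR A E) := inferInstance

variable {E : Gp k} {P : Type u} [CommRing P] [Algebra (A.obj (op ⟨0⟩)) P]

/-- the chart value of an `SObj` -/
def meObj (X : SObj k A E P) : ME A E := mkCoalg (X.M.obj ⟨0⟩) (chartComod X)

/-- the chart value of a morphism -/
def meHom {X X' : SObj k A E P} (f : X.Hom X') : meObj X ⟶ meObj X' :=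
  K496.mkHom (chartComod X) (chartComod X') (f.f ⟨0⟩) (LinearMap.ext fun m => chartMap_equi f m)

theorem me_comp_zero {X X' X'' : SObj k A E P} (f : X.Hom X') (g : X'.Hom X'')
    (h : ∀ m, g.f ⟨0⟩ (f.f ⟨0⟩ m) = 0) : meHom f ≫ meHom g = 0 := by
  haveI := K668.faithful_forget (GO (A.obj (op ⟨0⟩)) (OR A E))
  apply (GO (A.obj (op ⟨0⟩)) (OR A E)).forget.map_injective
  exact ModuleCat.hom_ext (LinearMap.ext h)

instance modP (X : SObj k A E P) : Module P ((GO (A.obj (op ⟨0⟩)) (OR A E)).forget.obj (meObj X)) := X.pm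

instance towP (X : SObj k A E P) :
    IsScalarTower (A.obj (op ⟨0⟩)) P ((GO (A.obj (op ⟨0⟩)) (OR A E)).forget.obj (meObj X)) := X.tw

section Cx

variable (K : ℤ → SObj k A E P) (d : ∀ n : ℤ, (K n).Hom (K (n + 1)))
  (dd : ∀ (n : ℤ) (m : (K n).M.obj ⟨0⟩), (d (n + 1)).f ⟨0⟩ ((d n).f ⟨0⟩ m) = 0)

/-- the complex of comodules over `R ⊗ O(E)` -/
def meCx : CochainComplex (ME A E) ℤ :=
  CochainComplex.of (fun n => meObj (K n)) (fun n => meHom (d n)) fun n => me_comp_zero _ _ (dd n)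

theorem meCx_d (i : ℤ) : (meCx K d dd).d i (i + 1) = meHom (d i) :=
  CochainComplex.of_d (fun n => meObj (K n)) (fun n => meHom (d n)) i

instance modCx (i : ℤ) : Module P ((GO (A.obj (op ⟨0⟩)) (OR A E)).forget.obj ((meCx K d dd).X i)) :=
  modP (K i)

instance towCx (i : ℤ) :
    IsScalarTower (A.obj (op ⟨0⟩)) P ((GO (A.obj (op ⟨0⟩)) (OR A E)).forget.obj ((meCx K d dd).X i)) :=
  towP (K i)

theorem plin_d (i j : ℤ) : PLin P ((GO (A.obj (op ⟨0⟩)) (OR A E)).forget.map ((meCx K d dd).d i j)) := by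
  by_cases hij : i + 1 = j
  · subst hij
    rw [meCx_d]
    exact fun q m => (d i).pl q m
  · have h0 : (meCx K d dd).d i j = 0 := (meCx K d dd).shape i j hij
    rw [h0, Functor.map_zero]
    exact PLin.zero

end Cx

/-- **the chart theorem for a kernel datum** -/
theorem kernel_chart (p : ℕ) {k : Type u} [CommRing k] [IsLb p k] {A : NFᵒᵖ ⥤ CommRingCat.{u}} [GRF k A]
    {x : PrimeSpectrum (A.obj (op ⟨0⟩))} (c : CoverDatum k A x) (K : KernelDatum c) :
    ∃ r : ℕ, ∀ {Kf K' : CochainComplex (ME A K.E) ℤ} (q : K' ⟶ Kf) (s : K' ⟶ meCx K.K K.d K.dd) [QuasiIso q]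
      [QuasiIso s] (b : ℤ) [Kf.IsStrictlyLE b]
      (_ : ∀ n, Module.Flat (A.obj (op ⟨0⟩)) ((GO (A.obj (op ⟨0⟩)) (OR A K.E)).forget.obj (Kf.X n)))
      (N : ModuleCat.{u} (A.obj (op ⟨0⟩))) (j : ℤ) {F : Type u} [AddCommGroup F] [Module (A.obj (op ⟨0⟩)) F]
      (e : HopfRep.Comod (A.obj (op ⟨0⟩)) (OR A K.E) F),
      (∀ m, r < m → Subsingleton (HT (HN Kf N j) e m)) ∧
      (Module.Finite (A.obj (op ⟨0⟩)) N → Module.Finite (A.obj (op ⟨0⟩)) F →
        ∀ m, Module.Finite (A.obj (op ⟨0⟩)) (HT (HN Kf N j) e m)) := by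
  obtain ⟨r, hr⟩ := kernelFin p c K
  refine ⟨r, fun {Kf K'} q s _ _ b _ hflat N j {F} _ _ e => ?_⟩
  haveI := noeth_chart k A p
  have h := chart_main (P := K.P) (π := K.π) (cE := cE c K.ι) K.π_surj hr q s b hflat
    (plin_d K.K K.d K.dd) (-K.e) 0 (fun i hi => K.bdd i hi) (fun i => kernel_small c K i) N j e
  exact ⟨h.1, fun hN hF => h.2 (noeth_P c p K) (fun i => K.fin i) hN hF⟩

end Groth.Agent.ResProp.EF.K494.Seam
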