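import Groth.Agent.ResProp.EF.K494.SeamC
import Groth.Agent.ResProp.EF.K494.SeamME
import Groth.Agent.ResProp.EF.K140.UE

/-!
# Seam `Arch.KernelDatum` ⇒ complexes of coalgebras over `- ⊗ O(E)` on `Comod A`, and (H10)
-/

set_option autoImplicit false
set_option linter.dupNamespace false
set_option linter.style.haveILetI false

open CategoryTheory CategoryTheory.Limits Opposite TensorProduct HomologicalComplex

noncomputable section

namespace Groth.Agent.ResProp.EF.K494.Seam

open K784.BC K784.PM K741.RP EF56 K294 Grp Arch K967 K496 K671 K940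
open Groth.Agent.ResProp.EF.K742 (KS TM unitGO)

universe u

variable {k : Type u} [CommRing k] {A : NFᵒᵖ ⥤ CommRingCat.{u}} [GRF k A]
variable {E : Gp k} {P : Type u} [CommRing P] [Algebra (A.obj (op ⟨0⟩)) P]

/-- the structure maps `k → A⟨n⟩` -/
def ks (k : Type u) [CommRing k] (A : NFᵒᵖ ⥤ CommRingCat.{u}) [GRF k A] : KS k A where
  κ X := algebraMap k (A.obj (op X.unop))
  nat f c := GRF.map_k f.unop c

/-- the coaction at level `a`, as a map into `TM` -/
def coL (X : SObj k A E P) (a : NF) : X.M.obj a →ₗ[A.obj (op a)] TM ((ks k A).κ (op a)) (X.M.obj a) E.O where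
  toFun m := (X.e.co a).coact m
  map_add' := map_add _
  map_smul' r m := by
    change (X.e.co a).coact (r • m) = _
    rw [X.e.lin, mulk_rTensor]
    rfl

theorem rTensor_mapk (M : PM.{u} A) (O : Type u) [AddCommGroup O] [Module k O] {a b : NF} (φ : a ⟶ b)
    (z : M.obj b ⊗[k] O) : (mapk (k := k) M φ).rTensor O z =
      (TM.smap (W := O) (κ := (ks k A).κ (op b)) ((ks k A).κ (op a)) (rg A φ) (fun c => GRF.map_k φ c) (M.map φ)
        (M.map_smul φ) : TM ((ks k A).κ (op b)) (M.obj b) O →+ TM ((ks k A).κ (op a)) (M.obj a) O) z := by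
  induction z with
  | zero => rw [map_zero]; exact (map_zero _).symm
  | add x y hx hy => rw [map_add, hx, hy]; exact (map_add _ _ _).symm
  | tmul m w => exact (TM.smap_tm (κ := (ks k A).κ (op b)) _ _ _ _ _ m w).symm

theorem epsL_eq (M : PM.{u} A) (O : Type u) [CommRing O] [Bialgebra k O] (a : NF) (z : M.obj a ⊗[k] O) :
    K742.epsL O ((ks k A).κ (op a)) (M.obj a) z =
      TensorProduct.rid k (M.obj a) ((Coalgebra.counit (R := k) (A := O)).lTensor (M.obj a) z) := by
  induction z with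
  | zero => rw [map_zero, map_zero]; exact map_zero (K742.epsL O ((ks k A).κ (op a)) (M.obj a))
  | add x y hx hy =>
    rw [map_add, map_add, ← hx, ← hy]
    exact map_add (K742.epsL O ((ks k A).κ (op a)) (M.obj a)) x y
  | tmul m w =>
    rw [LinearMap.lTensor_tmul, TensorProduct.rid_tmul]
    exact K742.epsL_tm O ((ks k A).κ (op a)) m w

theorem ins_eq (M : PM.{u} A) (O : Type u) [CommRing O] [Bialgebra k O] (a : NF) (m : M.obj a) (w : O ⊗[k] O) :
    K742.ins O ((ks k A).κ (op a)) m w =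
      ((TensorProduct.assoc k (M.obj a) O O).symm (m ⊗ₜ[k] w) : (M.obj a ⊗[k] O) ⊗[k] O) := by
  induction w with
  | zero => rw [map_zero, TensorProduct.tmul_zero, map_zero]; rfl
  | add x y hx hy => rw [map_add, TensorProduct.tmul_add, map_add, hx, hy]; rfl
  | tmul x y => rfl

theorem delL_eq (M : PM.{u} A) (O : Type u) [CommRing O] [Bialgebra k O] (a : NF) (z : M.obj a ⊗[k] O) :
    K742.delL O ((ks k A).κ (op a)) (M.obj a) z =
      ((TensorProduct.assoc k (M.obj a) O O).symm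
        ((Coalgebra.comul (R := k) (A := O)).lTensor (M.obj a) z) : (M.obj a ⊗[k] O) ⊗[k] O) := by
  induction z with
  | zero => rw [map_zero, map_zero]; exact map_zero (K742.delL O ((ks k A).κ (op a)) (M.obj a))
  | add x y hx hy =>
    rw [map_add, map_add, ← hx, ← hy]
    exact map_add (K742.delL O ((ks k A).κ (op a)) (M.obj a)) x y
  | tmul m w =>
    rw [LinearMap.lTensor_tmul, ← ins_eq]
    exact K742.delL_tm O ((ks k A).κ (op a)) m w

theorem map_coL (X : SObj k A E P) (a : NF) (z : X.M.obj a ⊗[k] E.O) :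
    ((X.e.co a).coact.rTensor E.O z : (X.M.obj a ⊗[k] E.O) ⊗[k] E.O) =
      TM.map ((ks k A).κ (op a)) (coL X a) (LinearMap.id : E.O →ₗ[k] E.O) z := by
  induction z with
  | zero =>
    rw [map_zero]
    exact (map_zero (TM.map ((ks k A).κ (op a)) (coL X a) (LinearMap.id : E.O →ₗ[k] E.O))).symm
  | add x y hx hy =>
    rw [map_add, hx, hy]
    exact (map_add (TM.map ((ks k A).κ (op a)) (coL X a) (LinearMap.id : E.O →ₗ[k] E.O)) x y).symm
  | tmul m w =>
    rw [LinearMap.rTensor_tmul]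
    exact (TM.map_tm ((ks k A).κ (op a)) (coL X a) (LinearMap.id : E.O →ₗ[k] E.O) m w).symm

/-- the coalgebra of an `SObj` -/
def ce (X : SObj k A E P) : (K742.GO (ks k A) E.O).Coalgebra where
  A := cm X
  a := homC (M := cm X) (N := (K742.GO (ks k A) E.O).obj (cm X)) (fun a => coL X a) fun a b φ m => by
    change (X.e.co a).coact (X.M.map φ m) = _
    rw [X.e.nat, rTensor_mapk]
    rfl
  counit := by
    apply hom_ext_cmp
    intro a
    apply LinearMap.ext
    intro m
    change K742.epsL E.O ((ks k A).κ (op a)) (X.M.obj a) ((X.e.co a).coact m) = m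
    rw [epsL_eq]
    have h := congr($((X.e.co a).counit_comp) m)
    change (Coalgebra.counit (R := k) (A := E.O)).lTensor (X.M.obj a) ((X.e.co a).coact m) = m ⊗ₜ[k] (1 : k) at h
    rw [h]
    exact (TensorProduct.rid_tmul (R := k) (M := X.M.obj a) m (1 : k)).trans (one_smul k _)
  coassoc := by
    apply hom_ext_cmp
    intro a
    apply LinearMap.ext
    intro m
    change K742.delL E.O ((ks k A).κ (op a)) (X.M.obj a) ((X.e.co a).coact m) =
      TM.map ((ks k A).κ (op a)) (coL X a) (LinearMap.id : E.O →ₗ[k] E.O) ((X.e.co a).coact m)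
    rw [delL_eq]
    have h := congr($((X.e.co a).coassoc) m)
    change TensorProduct.assoc k (X.M.obj a) E.O E.O ((X.e.co a).coact.rTensor E.O ((X.e.co a).coact m)) =
      (Coalgebra.comul (R := k) (A := E.O)).lTensor (X.M.obj a) ((X.e.co a).coact m) at h
    rw [← h, LinearEquiv.symm_apply_apply]
    exact map_coL X a _

/-- the morphism of coalgebras of a morphism of `SObj`'s -/
def ceHom {X X' : SObj k A E P} (f : X.Hom X') : ce X ⟶ ce X' where
  f := cmHom f
  h := by
    apply hom_ext_cmp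
    intro a
    apply LinearMap.ext
    intro m
    change TM.map ((ks k A).κ (op a)) (f.f a) (LinearMap.id : E.O →ₗ[k] E.O) ((X.e.co a).coact m) =
      (X'.e.co a).coact (f.f a m)
    rw [f.equi]
    generalize (X.e.co a).coact m = z
    induction z with
    | zero =>
      rw [map_zero]
      exact map_zero (TM.map ((ks k A).κ (op a)) (f.f a) (LinearMap.id : E.O →ₗ[k] E.O))
    | add x y hx hy =>
      rw [map_add, ← hx, ← hy]
      exact map_add (TM.map ((ks k A).κ (op a)) (f.f a) (LinearMap.id : E.O →ₗ[k] E.O)) x y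
    | tmul m w =>
      rw [LinearMap.rTensor_tmul]
      exact TM.map_tm ((ks k A).κ (op a)) (f.f a) (LinearMap.id : E.O →ₗ[k] E.O) m w

section Lift

/-- `uE` for the seam -/
abbrev uES (A : NFᵒᵖ ⥤ CommRingCat.{u}) [GRF k A] (E : Gp k) : (K742.GO (ks k A) E.O).Coalgebra ⥤ ME A E :=
  K140.uE (ks k A) (fun _ => rfl) E.O

theorem comod_ext {R O V : Type u} [CommRing R] [CommRing O] [Bialgebra R O] [AddCommGroup V] [Module R V]
    {c c' : HopfRep.Comod R O V} (h : ∀ v, c.coact v = c'.coact v) : c = c' := by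
  cases c
  cases c'
  have h1 : _ = _ := LinearMap.ext h
  cases h1
  rfl

/-- the comodule structure of `uE (ce X)` -/
theorem toComod_uES_ce (X : SObj k A E P) : toComod ((uES A E).obj (ce X)) = chartComod X := by
  refine comod_ext (V := X.M.obj ⟨0⟩) fun m => ?_
  refine Eq.trans ?_ (chartComod_coact X m).symm
  change K140.tb (κ := (ks k A).κ (op ⟨0⟩)) E.O (fun _ => rfl) (X.M.obj ⟨0⟩) ((X.e.co ⟨0⟩).coact m) =
    K805.up k E.O (LinearMap.id : X.M.obj ⟨0⟩ →ₗ[A.obj (op ⟨0⟩)] X.M.obj ⟨0⟩) ((X.e.co ⟨0⟩).coact m)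
  generalize (X.e.co ⟨0⟩).coact m = z
  induction z with
  | zero =>
    rw [map_zero]
    exact map_zero (K140.tb (κ := (ks k A).κ (op ⟨0⟩)) E.O (fun _ => rfl) (X.M.obj ⟨0⟩))
  | add x y hx hy =>
    rw [map_add, ← hx, ← hy]
    exact map_add (K140.tb (κ := (ks k A).κ (op ⟨0⟩)) E.O (fun _ => rfl) (X.M.obj ⟨0⟩)) x y
  | tmul m w =>
    rw [K805.up_tmul]
    exact K140.tb_tm (κ := (ks k A).κ (op ⟨0⟩)) E.O (fun _ => rfl) (X.M.obj ⟨0⟩) m w

end Lift

section Cx

variable [hA : Fact (GR A)]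

theorem ce_comp_zero {X X' X'' : SObj k A E P} (f : X.Hom X') (g : X'.Hom X'')
    (h : ∀ m, g.f ⟨0⟩ (f.f ⟨0⟩ m) = 0) : ceHom f ≫ ceHom g = 0 := by
  apply Comonad.Coalgebra.Hom.ext
  exact cmHom_comp_zero f g h

variable (K : ℤ → SObj k A E P) (d : ∀ n : ℤ, (K n).Hom (K (n + 1)))
  (dd : ∀ (n : ℤ) (m : (K n).M.obj ⟨0⟩), (d (n + 1)).f ⟨0⟩ ((d n).f ⟨0⟩ m) = 0)

/-- the complex of `(Γ, E)`-objects -/
def ceCx : CochainComplex (K742.GO (ks k A) E.O).Coalgebra ℤ :=
  CochainComplex.of (fun n => ce (K n)) (fun n => ceHom (d n)) fun n => ce_comp_zero _ _ (dd n)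

theorem ceCx_d (i : ℤ) : (ceCx K d dd).d i (i + 1) = ceHom (d i) :=
  CochainComplex.of_d (fun n => ce (K n)) (fun n => ceHom (d n)) i

theorem cmCx_d (i : ℤ) : (cmCx K d dd).d i (i + 1) = cmHom (d i) :=
  CochainComplex.of_d (fun n => cm (K n)) (fun n => cmHom (d n)) i

/-- the underlying complex of comodules -/
def forgetCe : ((K742.GO (ks k A) E.O).forget.mapHomologicalComplex (ComplexShape.up ℤ)).obj (ceCx K d dd) ≅
    cmCx K d dd :=
  HomologicalComplex.Hom.isoOfComponents (fun n => Iso.refl (cm (K n))) (by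
    intro i j hij
    have hij' : i + 1 = j := hij
    subst hij'
    have h3 : (((K742.GO (ks k A) E.O).forget.mapHomologicalComplex (ComplexShape.up ℤ)).obj (ceCx K d dd)).d i (i + 1) =
      (K742.GO (ks k A) E.O).forget.map ((ceCx K d dd).d i (i + 1)) := rfl
    rw [h3, cmCx_d, ceCx_d]
    exact (Category.id_comp _).trans (Category.comp_id _).symm)

theorem isZero_ce (X : SObj k A E P) (h : Subsingleton (X.M.obj ⟨0⟩)) : IsZero (ce X) := by
  rw [IsZero.iff_id_eq_zero]
  apply Comonad.Coalgebra.Hom.ext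
  exact (IsZero.iff_id_eq_zero _).1 (isZero_cm X h)

theorem isStrictlyGE_ceCx (a : ℤ) (h : ∀ n : ℤ, n < a → Subsingleton ((K n).M.obj ⟨0⟩)) :
    (ceCx K d dd).IsStrictlyGE a := by
  rw [CochainComplex.isStrictlyGE_iff]
  exact fun n hn => isZero_ce (K n) (h n hn)

theorem isStrictlyLE_ceCx (b : ℤ) (h : ∀ n : ℤ, b < n → Subsingleton ((K n).M.obj ⟨0⟩)) :
    (ceCx K d dd).IsStrictlyLE b := by
  rw [CochainComplex.isStrictlyLE_iff]
  exact fun n hn => isZero_ce (K n) (h n hn)

section Chart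

variable [PreservesFiniteLimits (K742.GO (ks k A) E.O).toFunctor]
  [PreservesFiniteColimits (K742.GO (ks k A) E.O).toFunctor]

/-- the chart complex of `ceCx` -/
def usCeCx (h : K742.PresTor (chartF A) (K742.GO (ks k A) E.O)) :
    (K742.coalgChart (chartF A) (K742.GO (ks k A) E.O) h).usC.obj (ceCx K d dd) ≅ chartCx K d dd :=
  HomologicalComplex.Hom.isoOfComponents (fun n => Iso.refl (ModuleCat.of (A.obj (op ⟨0⟩)) ((K n).M.obj ⟨0⟩))) (by
    intro i j hij
    have hij' : i + 1 = j := hij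
    subst hij'
    have h2 : (chartCx K d dd).d i (i + 1) = ModuleCat.ofHom ((d i).f ⟨0⟩) :=
      CochainComplex.of_d (fun n => ModuleCat.of (A.obj (op ⟨0⟩)) ((K n).M.obj ⟨0⟩))
        (fun n => ModuleCat.ofHom ((d n).f ⟨0⟩)) i
    have h3 : ((K742.coalgChart (chartF A) (K742.GO (ks k A) E.O) h).usC.obj (ceCx K d dd)).d i (i + 1) =
      (K742.coalgChart (chartF A) (K742.GO (ks k A) E.O) h).us.map ((ceCx K d dd).d i (i + 1)) := rfl
    rw [h3, h2, ceCx_d]
    rfl)

theorem torGE_ceCx (h : K742.PresTor (chartF A) (K742.GO (ks k A) E.O)) {a : ℤ} (hT : TorGE a (chartCx K d dd)) :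
    TorGE a ((K742.coalgChart (chartF A) (K742.GO (ks k A) E.O) h).usC.obj (ceCx K d dd)) :=
  hT.of_iso (usCeCx K d dd h).symm

end Chart

variable [PreservesFiniteLimits (K742.GO (ks k A) E.O).toFunctor]

/-- `uE (ceCx)` -/
abbrev uCx : CochainComplex (ME A E) ℤ :=
  ((uES A E).mapHomologicalComplex (ComplexShape.up ℤ)).obj (ceCx K d dd)

instance modU (i : ℤ) : Module P ((GO (A.obj (op ⟨0⟩)) (OR A E)).forget.obj ((uCx K d dd).X i)) := (K i).pm

instance towU (i : ℤ) :
    IsScalarTower (A.obj (op ⟨0⟩)) P ((GO (A.obj (op ⟨0⟩)) (OR A E)).forget.obj ((uCx K d dd).X i)) := (K i).tw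

theorem plin_uCx (i j : ℤ) : PLin P ((GO (A.obj (op ⟨0⟩)) (OR A E)).forget.map ((uCx K d dd).d i j)) := by
  by_cases hij : i + 1 = j
  · subst hij
    have h3 : (uCx K d dd).d i (i + 1) = (uES A E).map ((ceCx K d dd).d i (i + 1)) := rfl
    rw [h3, ceCx_d]
    exact fun q m => (d i).pl q m
  · have h0 : (uCx K d dd).d i j = 0 := (uCx K d dd).shape i j hij
    rw [h0, Functor.map_zero]
    exact PLin.zero

end Cx

section Kernel

variable {x : PrimeSpectrum (A.obj (op ⟨0⟩))} (c : CoverDatum k A x) (KD : KernelDatum c) [hA : Fact (GR A)]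
  [PreservesFiniteLimits (K742.GO (ks k A) KD.E.O).toFunctor]

theorem small_uCx (i : ℤ) : K981.Small (P := KD.P) KD.π (cE c KD.ι).ρ
    ((coFun (A.obj (op ⟨0⟩)) (OR A KD.E)).co ((uCx KD.K KD.d KD.dd).X i)) := by
  have h := kernel_small c KD i
  have h2 : (coFun (A.obj (op ⟨0⟩)) (OR A KD.E)).co ((uCx KD.K KD.d KD.dd).X i) = chartComod (KD.K i) :=
    toComod_uES_ce (KD.K i)
  rw [h2]
  exact h

theorem finite_uCx (i : ℤ) : Module.Finite KD.P
    ((GO (A.obj (op ⟨0⟩)) (OR A KD.E)).forget.obj ((uCx KD.K KD.d KD.dd).X i)) := KD.fin i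

end Kernel

end Groth.Agent.ResProp.EF.K494.Seam
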