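import Groth.Agent.ResProp.EF.F5.Iface
import Groth.Agent.ResProp.EF.K294.Tor
import Mathlib.Algebra.Homology.CommSq

/-!
# GEN: invariant classes hit ⇒ all classes hit
-/

set_option autoImplicit false
set_option backward.defeqAttrib.useBackward true
set_option backward.isDefEq.respectTransparency false

universe t w v u

open CategoryTheory CategoryTheory.Limits HomologicalComplex ZeroObject

namespace Groth.Agent.ResProp.EF.K494.Gen

open Groth.Agent.ResProp.EF.K294 Groth.Agent.PerfB.RingKFlat Groth.Agent.ResProp.EF.F5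
open Groth.Agent.Dcoh.CxFun Groth.Agent.Dcoh.KFlatSES Groth.Agent.Htor.H240.FlatTens

section General

variable {C : Type v} [Category.{w} C] [Abelian C]

/-- pull-back of a short exact sequence -/
theorem shortExact_pullback {D : Type v} [Category.{w} D] [Abelian D] {K Y Z T' : D} (i : K ⟶ Y) (q : Y ⟶ Z)
    (w : i ≫ q = 0) (h : (ShortComplex.mk i q w).ShortExact) (p : T' ⟶ Z) :
    (ShortComplex.mk (pullback.lift i 0 (by rw [w, zero_comp]) : K ⟶ pullback q p) (pullback.snd q p)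
      (by simp)).ShortExact := by
  have hm : Mono i := h.mono_f
  have he : Epi q := h.epi_g
  have hmono : Mono (pullback.lift i 0 (by rw [w, zero_comp]) : K ⟶ pullback q p) := by
    have : Mono ((pullback.lift i 0 (by rw [w, zero_comp]) : K ⟶ pullback q p) ≫ pullback.fst q p) := by
      rw [pullback.lift_fst]; exact hm
    exact mono_of_mono _ (pullback.fst q p)
  refine ShortComplex.ShortExact.mk' ?_ hmono (Abelian.epi_pullback_of_epi_f q p)
  refine ShortComplex.exact_of_f_is_kernel _ ?_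
  refine KernelFork.IsLimit.ofι' _ _ ?_
  intro W k hk
  have hk' : k ≫ pullback.snd q p = 0 := hk
  have h1 : (k ≫ pullback.fst q p) ≫ q = 0 := by
    rw [Category.assoc, pullback.condition, ← Category.assoc, hk', zero_comp]
  let l := h.exact.lift (k ≫ pullback.fst q p) h1
  have hl : l ≫ i = k ≫ pullback.fst q p := h.exact.lift_f _ _
  refine ⟨l, ?_⟩
  apply pullback.hom_ext
  · exact (Category.assoc _ _ _).trans ((congrArg (l ≫ ·) (pullback.lift_fst _ _ _)).trans hl)
  · exact (Category.assoc _ _ _).trans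
      ((congrArg (l ≫ ·) (pullback.lift_snd _ _ _)).trans (comp_zero.trans hk'.symm))

/-- the sequence `0 → Y ×_Z T' → Y ⊕ T' → Z → 0` -/
theorem shortExact_square {D : Type v} [Category.{w} D] [Abelian D] {Y Z T' : D} (q : Y ⟶ Z) [Epi q] (p : T' ⟶ Z) :
    ((IsPullback.of_hasPullback q p).shortComplex').ShortExact := by
  have sq := IsPullback.of_hasPullback q p
  refine ShortComplex.ShortExact.mk' ?_ sq.mono_shortComplex'_f ?_
  · exact ShortComplex.exact_of_f_is_kernel _ sq.isLimitKernelFork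
  · have : Epi (biprod.inl ≫ sq.shortComplex'.g) := by
      simpa using (inferInstance : Epi q)
    exact epi_of_epi biprod.inl _

theorem bdd_iff (K : CochainComplex C ℤ) : Bdd K ↔ ∃ a b : ℤ, ∀ n, (n < a ∨ b < n) → IsZero (K.X n) := by
  constructor
  · rintro ⟨a, b, ha, hb⟩
    refine ⟨a, b, fun n hn => ?_⟩
    rcases hn with h | h
    · exact K.isZero_of_isStrictlyGE a n h
    · exact K.isZero_of_isStrictlyLE b n h
  · rintro ⟨a, b, h⟩
    exact ⟨a, b, (CochainComplex.isStrictlyGE_iff K a).2 fun i hi => h i (Or.inl hi),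
      (CochainComplex.isStrictlyLE_iff K b).2 fun i hi => h i (Or.inr hi)⟩

theorem bdd_of_epi {K L : CochainComplex C ℤ} (f : K ⟶ L) [Epi f] (h : Bdd K) : Bdd L := by
  rw [bdd_iff] at h ⊢
  obtain ⟨a, b, h⟩ := h
  refine ⟨a, b, fun n hn => ?_⟩
  have := h n hn
  exact IsZero.of_epi (f.f n) this

theorem bdd_of_mono {K L : CochainComplex C ℤ} (f : K ⟶ L) [Mono f] (h : Bdd L) : Bdd K := by
  rw [bdd_iff] at h ⊢
  obtain ⟨a, b, h⟩ := h
  refine ⟨a, b, fun n hn => ?_⟩
  have := h n hn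
  exact IsZero.of_mono (f.f n) this

theorem bdd_biprod {K L : CochainComplex C ℤ} (hK : Bdd K) (hL : Bdd L) : Bdd (K ⊞ L) := by
  rw [bdd_iff] at hK hL ⊢
  obtain ⟨a, b, h⟩ := hK
  obtain ⟨a', b', h'⟩ := hL
  refine ⟨min a a', max b b', fun n hn => ?_⟩
  refine IsZero.of_iso ?_ ((HomologicalComplex.eval C (ComplexShape.up ℤ) n).mapBiprod _ _)
  simp only [HomologicalComplex.eval_obj, biprod_isZero_iff]
  exact ⟨h n (by omega), h' n (by omega)⟩

theorem bdd_cone_id {K : CochainComplex C ℤ} (hK : Bdd K) : Bdd (CochainComplex.mappingCone (𝟙 K)) := by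
  rw [bdd_iff] at hK ⊢
  obtain ⟨a, b, h⟩ := hK
  refine ⟨a - 1, b, fun n hn => ?_⟩
  rw [CochainComplex.mappingCone.isZero_X_iff]
  exact ⟨h _ (by omega), h _ (by omega)⟩

end General

section

variable {C : Type v} [Category.{w} C] [Abelian C] {A : Type u} [CommRing A] (X : Chart A C)

/-- the tensor functor `Y ↦ us Y ⊗ K` -/
noncomputable abbrev tK (K : CM A) : CochainComplex C ℤ ⥤ CM A := X.usC ⋙ (TR A).map₂CochainComplex.flip.obj K

instance : PreservesFiniteColimits X.us := by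
  have : X.us.IsLeftAdjoint := X.adj.isLeftAdjoint
  infer_instance

theorem shortExact_usC {S : ShortComplex (CochainComplex C ℤ)} (hS : S.ShortExact) : (S.map X.usC).ShortExact := by
  refine HomologicalComplex.shortExact_of_degreewise_shortExact _ fun n => ?_
  have h1 : (S.map (eval C (ComplexShape.up ℤ) n)).ShortExact := hS.map_of_exact (eval _ _ n)
  exact h1.map_of_exact X.us

theorem shortExact_tK {K : CM A} (hK : ∀ n : ℤ, Module.Flat A (K.X n)) {S : ShortComplex (CochainComplex C ℤ)}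
    (hS : S.ShortExact) : (S.map (tK X K)).ShortExact := by
  have : HasExactColimitsOfShape ℕ (ModuleCat.{u} A) := hasExactColimitsOfShape_nat A
  have : CountableAB4 (ModuleCat.{u} A) := by
    have : HasFiniteBiproducts (ModuleCat.{u} A) := Abelian.hasFiniteBiproducts
    have : HasFilteredColimitsOfSize.{0, 0} (ModuleCat.{u} A) := inferInstance
    have : AB5OfSize.{0, 0} (ModuleCat.{u} A) := AB5OfSize_of_univLE.{0, 0, u, u} (ModuleCat.{u} A)
    exact CountableAB4.of_countableAB5 _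
  refine shortExact_map_flip (TR A) K (S.map X.usC) (fun p q => ?_)
  have h1 : ((S.map X.usC).map (eval (ModuleCat.{u} A) (ComplexShape.up ℤ) p)).ShortExact :=
    (shortExact_usC X hS).map_of_exact (eval _ _ p)
  have h2 := hK q
  have h3 : ((TR A).flip.obj (K.X q)).PreservesHomology := preservesHomology_tensorRight _ h2
  exact h1.map_of_exact _

/-- middle exactness of `hh` -/
theorem hh_exact {K : CM A} (hK : ∀ n : ℤ, Module.Flat A (K.X n)) {S : ShortComplex (CochainComplex C ℤ)}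
    (hS : S.ShortExact) (x : (hh X K).obj S.X₂) (hx : ((hh X K).map S.g).hom x = 0) :
    ∃ y : (hh X K).obj S.X₁, ((hh X K).map S.f).hom y = x := by
  have h := (shortExact_tK X hK hS).homology_exact₂ 0
  rw [ShortComplex.moduleCat_exact_iff] at h
  exact h x hx

instance hh_additive (K : CM A) : (hh X K).Additive := by
  unfold hh; infer_instance

/-- `hh` kills null-homotopic maps -/
theorem hh_homotopy (K : CM A) {Y Y' : CochainComplex C ℤ} {f g : Y ⟶ Y'} (h : Homotopy f g) :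
    (hh X K).map f = (hh X K).map g := by
  obtain ⟨h'⟩ := HtpyFunctor.homotopy ((TR A).map₂CochainComplex.flip.obj K) (X.us.mapHomotopy h)
  exact h'.homologyMap_eq 0

/-- `PerfT` is stable under extensions (helper573) -/
def PerfExt : Prop := ∀ S : ShortComplex (CochainComplex C ℤ), S.ShortExact → PerfT X S.X₁ → PerfT X S.X₃ → PerfT X S.X₂

variable {X}

theorem perfT_zero : PerfT X (0 : CochainComplex C ℤ) := by
  have hz : IsZero (X.usC.obj (0 : CochainComplex C ℤ)) := X.usC.map_isZero (isZero_zero _)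
  refine ⟨(bdd_iff _).2 ⟨0, 0, fun n _ => (HomologicalComplex.eval C (ComplexShape.up ℤ) n).map_isZero (isZero_zero _)⟩,
    0, 0, ⟨(bdd_iff _).2 ⟨0, 0, fun n _ =>
      (HomologicalComplex.eval _ (ComplexShape.up ℤ) n).map_isZero (isZero_zero _)⟩, fun n => ?_, fun n => ?_⟩, ?_⟩
  · have h0 : IsZero ((0 : CM A).X n) := (HomologicalComplex.eval _ (ComplexShape.up ℤ) n).map_isZero (isZero_zero _)
    have := ModuleCat.subsingleton_of_isZero h0
    infer_instance
  · have h0 : IsZero ((0 : CM A).X n) := (HomologicalComplex.eval _ (ComplexShape.up ℤ) n).map_isZero (isZero_zero _)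
    have := ModuleCat.subsingleton_of_isZero h0
    infer_instance
  · have : IsIso (0 : (0 : CM A) ⟶ X.usC.obj (0 : CochainComplex C ℤ)) :=
      ⟨0, (isZero_zero _).eq_of_src _ _, hz.eq_of_src _ _⟩
    infer_instance

theorem perfT_biprod (hE : PerfExt X) {T T' : CochainComplex C ℤ} (h : PerfT X T) (h' : PerfT X T') :
    PerfT X (T ⊞ T') :=
  hE (ShortComplex.mk (biprod.inl : T ⟶ T ⊞ T') (biprod.snd : T ⊞ T' ⟶ T') (by simp))
    (ShortComplex.Splitting.ofHasBinaryBiproduct T T').shortExact h h'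

section Theta

variable {K : CM A} (Θ : Theta.{t} X K)

/-- the module of classes -/
abbrev V (Y : CochainComplex C ℤ) : ModuleCat.{u} A := X.us.obj (Θ.H.obj Y)

/-- functoriality -/
abbrev Vm {Y Y' : CochainComplex C ℤ} (f : Y ⟶ Y') : V Θ Y →ₗ[A] V Θ Y' := (X.us.map (Θ.H.map f)).hom

theorem Vm_comp {Y Y' Y'' : CochainComplex C ℤ} (f : Y ⟶ Y') (g : Y' ⟶ Y'') (y : V Θ Y) :
    Vm Θ (f ≫ g) y = Vm Θ g (Vm Θ f y) := by
  simp [Vm]

theorem Vm_id {Y : CochainComplex C ℤ} (y : V Θ Y) : Vm Θ (𝟙 Y) y = y := by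
  simp [Vm]

theorem iso_nat {Y Y' : CochainComplex C ℤ} (f : Y ⟶ Y') (y : V Θ Y) :
    (Θ.iso.hom.app Y').hom (Vm Θ f y) = ((hh X K).map f).hom ((Θ.iso.hom.app Y).hom y) := by
  have := Θ.iso.hom.naturality f
  exact congrArg (fun φ => φ.hom y) this

theorem iso_inj {Y : CochainComplex C ℤ} {y y' : V Θ Y} (h : (Θ.iso.hom.app Y).hom y = (Θ.iso.hom.app Y).hom y') :
    y = y' := by
  have h1 : ∀ z : V Θ Y, (Θ.iso.inv.app Y).hom ((Θ.iso.hom.app Y).hom z) = z := fun z =>
    congrArg (fun φ => φ.hom z) (Θ.iso.hom_inv_id_app Y)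
  rw [← h1 y, ← h1 y', h]

theorem Vm_exact {S : ShortComplex (CochainComplex C ℤ)} (hS : S.ShortExact) (x : V Θ S.X₂)
    (hx : Vm Θ S.g x = 0) : ∃ y : V Θ S.X₁, Vm Θ S.f y = x := by
  obtain ⟨y, hy⟩ := hh_exact X Θ.flatK hS ((Θ.iso.hom.app S.X₂).hom x) (by rw [← iso_nat, hx, map_zero])
  refine ⟨(Θ.iso.inv.app S.X₁).hom y, iso_inj Θ ?_⟩
  rw [iso_nat, ← hy]
  congr 1
  exact congrArg (fun φ => φ.hom y) (Θ.iso.inv_hom_id_app S.X₁)

theorem Vm_congr {Y Y' : CochainComplex C ℤ} {f g : Y ⟶ Y'} (h : (hh X K).map f = (hh X K).map g) (y : V Θ Y) :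
    Vm Θ f y = Vm Θ g y := by
  apply iso_inj Θ
  rw [iso_nat, iso_nat, h]

theorem Vm_neg {Y Y' : CochainComplex C ℤ} (f : Y ⟶ Y') (y : V Θ Y) : Vm Θ (-f) y = - Vm Θ f y := by
  apply iso_inj Θ
  rw [map_neg, iso_nat, iso_nat, Functor.map_neg]
  rfl

theorem Vm_zero {Y Y' : CochainComplex C ℤ} (y : V Θ Y) : Vm Θ (0 : Y ⟶ Y') y = 0 := by
  apply iso_inj Θ
  rw [map_zero, iso_nat, Functor.map_zero]
  rfl

/-- the submodule of hit classes -/
def hit (hE : PerfExt X) (Y : CochainComplex C ℤ) : Submodule A (V Θ Y) where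
  carrier := {y | ∃ (T : CochainComplex C ℤ) (p : T ⟶ Y) (s : V Θ T), PerfT X T ∧ Vm Θ p s = y}
  zero_mem' := ⟨0, 0, 0, perfT_zero, map_zero _⟩
  add_mem' := by
    rintro _ _ ⟨T, p, s, hT, rfl⟩ ⟨T', p', s', hT', rfl⟩
    refine ⟨T ⊞ T', biprod.desc p p', Vm Θ biprod.inl s + Vm Θ biprod.inr s', perfT_biprod hE hT hT', ?_⟩
    rw [map_add, ← Vm_comp, ← Vm_comp, biprod.inl_desc, biprod.inr_desc]
  smul_mem' := by
    rintro c _ ⟨T, p, s, hT, rfl⟩
    exact ⟨T, p, c • s, hT, map_smul _ _ _⟩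

theorem range_le_hit (hE : PerfExt X) {T Y : CochainComplex C ℤ} (hT : PerfT X T) (p : T ⟶ Y) :
    LinearMap.range (Vm Θ p) ≤ hit Θ hE Y := by
  rintro _ ⟨s, rfl⟩
  exact ⟨T, p, s, hT, rfl⟩

/-- every finitely generated submodule of the hit classes is in one range -/
theorem exists_range (hE : PerfExt X) (Y : CochainComplex C ℤ) (N : Submodule A (V Θ Y)) (hN : N.FG)
    (hle : N ≤ hit Θ hE Y) : ∃ (T : CochainComplex C ℤ) (p : T ⟶ Y), PerfT X T ∧ N ≤ LinearMap.range (Vm Θ p) := by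
  induction N, hN using Submodule.fg_induction with
  | singleton x =>
    obtain ⟨T, p, s, hT, hs⟩ := hle (Submodule.mem_span_singleton_self x)
    refine ⟨T, p, hT, ?_⟩
    rw [Submodule.span_singleton_le_iff_mem]
    exact ⟨s, hs⟩
  | sup N₁ N₂ _ _ h₁ h₂ =>
    obtain ⟨T, p, hT, hs⟩ := h₁ (le_sup_left.trans hle)
    obtain ⟨T', p', hT', hs'⟩ := h₂ (le_sup_right.trans hle)
    refine ⟨T ⊞ T', biprod.desc p p', perfT_biprod hE hT hT', sup_le ?_ ?_⟩
    · refine hs.trans ?_
      rintro _ ⟨s, rfl⟩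
      exact ⟨Vm Θ biprod.inl s, by rw [← Vm_comp, biprod.inl_desc]⟩
    · refine hs'.trans ?_
      rintro _ ⟨s, rfl⟩
      exact ⟨Vm Θ biprod.inr s, by rw [← Vm_comp, biprod.inr_desc]⟩

theorem dirRange (hE : PerfExt X) (Y : CochainComplex C ℤ) : DirRange X (hit Θ hE Y) := by
  intro s hs s' hs'
  obtain ⟨T, p, hT, h⟩ := exists_range Θ hE Y (Submodule.span A {s, s'}) (Submodule.fg_span (by simp))
    (Submodule.span_le.2 (by
      rintro x hx
      rcases hx with rfl | rfl
      · exact hs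
      · exact hs'))
  exact ⟨T, p, hT.1, h (Submodule.subset_span (by simp)), h (Submodule.subset_span (by simp)),
    range_le_hit Θ hE hT p⟩

/-- the killing step: `p : T ⟶ Y` perfect; `Y ⟶ Y'` kills the range of `V p`, and what is hit in `Y'` is hit in `Y` -/
theorem kill (hE : PerfExt X) {T Y : CochainComplex C ℤ} (hT : PerfT X T) (hY : Bdd Y) (p : T ⟶ Y) :
    ∃ (Y' : CochainComplex C ℤ) (r : Y ⟶ Y'), Bdd Y' ∧ (∀ t : V Θ T, Vm Θ r (Vm Θ p t) = 0) ∧
      ∀ y : V Θ Y, Vm Θ r y ∈ hit Θ hE Y' → y ∈ hit Θ hE Y := by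
  let Yt := Y ⊞ CochainComplex.mappingCone (𝟙 T)
  let i : T ⟶ Yt := biprod.lift (-p) (CochainComplex.mappingCone.inr (𝟙 T))
  have hi : Mono i := by
    have h0 : Mono (CochainComplex.mappingCone.inr (𝟙 T)) := by
      refine @HomologicalComplex.mono_of_mono_f _ _ _ _ _ _ _ _ (fun n => ?_)
      have h : Mono ((CochainComplex.mappingCone.inr (𝟙 T)).f n ≫
          (CochainComplex.mappingCone.snd (𝟙 T)).v n n (add_zero n)) := by
        rw [CochainComplex.mappingCone.inr_f_snd_v]; infer_instance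
      exact mono_of_mono _ ((CochainComplex.mappingCone.snd (𝟙 T)).v n n (add_zero n))
    have h1 : Mono (i ≫ biprod.snd) := by
      rw [biprod.lift_snd]
      exact h0
    exact mono_of_mono i biprod.snd
  let π : Yt ⟶ cokernel i := cokernel.π i
  have hse : (ShortComplex.mk i π (cokernel.condition i)).ShortExact :=
    ShortComplex.ShortExact.mk' (ShortComplex.exact_cokernel i) hi (inferInstance : Epi (cokernel.π i))
  have hYt : Bdd Yt := bdd_biprod hY (bdd_cone_id hT.1)
  refine ⟨cokernel i, biprod.inl ≫ π, bdd_of_epi π hYt, ?_, ?_⟩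
  · intro t
    have h1 : p ≫ biprod.inl ≫ π = CochainComplex.mappingCone.inr (𝟙 T) ≫ biprod.inr ≫ π := by
      have h2 : i ≫ π = 0 := cokernel.condition i
      have h3 : i = -(p ≫ biprod.inl) + CochainComplex.mappingCone.inr (𝟙 T) ≫ biprod.inr := by
        apply biprod.hom_ext <;> simp [i]
      have h4 : i ≫ π = (-(p ≫ biprod.inl) + CochainComplex.mappingCone.inr (𝟙 T) ≫ biprod.inr) ≫ π :=
        congrArg (fun f => f ≫ π) h3
      rw [h2, Preadditive.add_comp, Preadditive.neg_comp, Category.assoc, Category.assoc] at h4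
      exact (neg_add_eq_zero.mp h4.symm)
    rw [← Vm_comp, h1, Vm_comp]
    have h4 : Homotopy (CochainComplex.mappingCone.inr (𝟙 T)) 0 := by
      refine (Homotopy.ofEq (by rw [Category.id_comp]; rfl)).trans
        (HomologicalComplex.homotopyCofiber.inrCompHomotopy (𝟙 T) ?_)
      intro j
      exact ⟨j - 1, by simp⟩
    rw [Vm_congr Θ (hh_homotopy X K h4) t, Vm_zero, map_zero]
  · intro y hy
    obtain ⟨T', p', s, hT', hs⟩ := hy
    have sq := shortExact_square π p'
    -- the class `(ỹ, s)`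
    let w : V Θ (Yt ⊞ T') := Vm Θ biprod.inl (Vm Θ (biprod.inl : Y ⟶ Yt) y) + Vm Θ biprod.inr s
    have e1 : ∀ z, Vm Θ (biprod.desc π (-p')) (Vm Θ biprod.inl z) = Vm Θ π z := fun z => by
      rw [← Vm_comp, biprod.inl_desc]
    have e2 : ∀ z, Vm Θ (biprod.desc π (-p')) (Vm Θ biprod.inr z) = - Vm Θ p' z := fun z => by
      rw [← Vm_comp, biprod.inr_desc, Vm_neg]
    have hw : Vm Θ (biprod.desc π (-p')) w = 0 := by
      simp only [w]
      rw [map_add, e1, e2, hs, Vm_comp]
      exact add_neg_cancel _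
    obtain ⟨t, ht⟩ := Vm_exact Θ sq w hw
    have ht' : Vm Θ (biprod.lift (pullback.fst π p') (pullback.snd π p')) t = w := ht
    refine ⟨pullback π p', pullback.fst π p' ≫ biprod.fst, t, ?_, ?_⟩
    · exact hE _ (shortExact_pullback i π (cokernel.condition i) hse p') hT hT'
    · have h5 : Vm Θ (pullback.fst π p') t = Vm Θ (biprod.inl : Y ⟶ Yt) y := by
        have e3 : ∀ z, Vm Θ (biprod.fst : Yt ⊞ T' ⟶ Yt) (Vm Θ biprod.inl z) = z := fun z => by
          rw [← Vm_comp, biprod.inl_fst, Vm_id]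
        have e4 : ∀ z, Vm Θ (biprod.fst : Yt ⊞ T' ⟶ Yt) (Vm Θ biprod.inr z) = 0 := fun z => by
          rw [← Vm_comp, biprod.inr_fst, Vm_zero]
        have h7 : Vm Θ (biprod.fst : Yt ⊞ T' ⟶ Yt) (Vm Θ (biprod.lift (pullback.fst π p') (pullback.snd π p')) t) =
            Vm Θ (pullback.fst π p') t := by
          rw [← Vm_comp, biprod.lift_fst]
        rw [← h7, ht']
        simp only [w]
        rw [map_add, e3, e4, add_zero]
      rw [Vm_comp, h5, ← Vm_comp, biprod.inl_fst, Vm_id]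

/-- **GEN** -/
theorem gen_aux (hE : PerfExt X) [IsNoetherianRing A] (hinv : InvHit X Θ) (Y : CochainComplex C ℤ) (hY : Bdd Y) :
    hit Θ hE Y = ⊤ := by
  by_contra hne
  obtain ⟨E, j, π, hπ, hfin, hker, e, he⟩ := Θ.small Y hY (hit Θ hE Y) (dirRange Θ hE Y) hne
  -- the image of the kernel of `us π`
  let N : Submodule A (V Θ Y) := (LinearMap.ker (X.us.map π).hom).map (X.us.map j).hom
  have hN : N.FG := by
    have : IsNoetherian A (X.us.obj E) := isNoetherian_of_isNoetherianRing_of_finite A _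
    exact (IsNoetherian.noetherian (LinearMap.ker (X.us.map π).hom)).map _
  have hle : N ≤ hit Θ hE Y := by
    rintro _ ⟨x, hx, rfl⟩
    exact hker x hx
  obtain ⟨T, p, hT, hNT⟩ := exists_range Θ hE Y N hN hle
  obtain ⟨Y', r, hY', hr, hback⟩ := kill Θ hE hT hY p
  -- `j ≫ H r` factors through `π`
  have h0 : kernel.ι π ≫ (j ≫ Θ.H.map r) = 0 := by
    apply X.us.map_injective
    ext x
    have hx : (X.us.map (kernel.ι π)).hom x ∈ LinearMap.ker (X.us.map π).hom := by
      have : X.us.map (kernel.ι π) ≫ X.us.map π = 0 := by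
        rw [← Functor.map_comp, kernel.condition, Functor.map_zero]
      exact congrArg (fun φ => φ.hom x) this
    obtain ⟨t, ht⟩ := hNT ⟨_, hx, rfl⟩
    have h1 := hr t
    rw [ht] at h1
    simpa [Vm] using h1
  obtain ⟨z, hz⟩ : ∃ z : Θ.O ⟶ Θ.H.obj Y', π ≫ z = j ≫ Θ.H.map r :=
    ⟨_, (Abelian.epiIsCokernelOfKernel (KernelFork.ofι (kernel.ι π) (kernel.condition π))
      (kernelIsKernel π)).fac (CokernelCofork.ofπ _ h0) WalkingParallelPair.one⟩
  obtain ⟨T', p', s, hT', hs⟩ := hinv Y' hY' z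
  apply he
  apply hback
  refine ⟨T', p', (X.us.map s).hom ((X.us.map π).hom e), hT', ?_⟩
  have h2 : π ≫ s ≫ Θ.H.map p' = j ≫ Θ.H.map r := by rw [hs, hz]
  have h3 := congrArg (fun φ => (X.us.map φ).hom e) h2
  simpa [Vm] using h3

theorem gen_of_perfExt (hE : PerfExt X) [IsNoetherianRing A] : F5.Gen.{t} X := by
  intro K Θ hinv Y hY y
  have h := gen_aux Θ hE hinv Y hY
  obtain ⟨T, p, s, hT, hs⟩ : (Θ.iso.inv.app Y).hom y ∈ hit Θ hE Y := h ▸ Submodule.mem_top
  refine ⟨T, p, (Θ.iso.hom.app T).hom s, hT, ?_⟩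
  rw [← iso_nat, hs]
  exact congrArg (fun φ => φ.hom y) (Θ.iso.inv_hom_id_app Y)

end Theta

end

end Groth.Agent.ResProp.EF.K494.Gen
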