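import Groth.Agent.ResProp.EF.K494.Gen
import Groth.Agent.ResProp.EF.K573.PerfExt

/-!
# `F5.Gen X`
-/

set_option autoImplicit false

universe t w v u

open CategoryTheory CategoryTheory.Limits HomologicalComplex

namespace Groth.Agent.ResProp.EF.K494.Gen

open Groth.Agent.ResProp.EF.K294 Groth.Agent.ResProp.EF.F5

variable {C : Type v} [Category.{w} C] [Abelian C] {A : Type u} [CommRing A]

theorem perfExt (X : Chart A C) : PerfExt X := fun _ hS h1 h3 =>
  Groth.Agent.ResProp.EF.K573.PerfT.ses₂ hS h1 h3

theorem gen (X : Chart A C) [IsNoetherianRing A] : F5.Gen.{t} X := gen_of_perfExt (perfExt X)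

end Groth.Agent.ResProp.EF.K494.Gen
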