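import Groth.Agent.ResProp.EF.Grp
import Mathlib.RingTheory.Localization.AtPrime.Basic
import Mathlib.RingTheory.Int.Basic
import Mathlib.RingTheory.PrincipalIdealDomain
import Mathlib.RingTheory.Localization.Submodule
import Mathlib.RingTheory.Flat.Localization

/-!
# `ℤ_(p)` (in any universe) is a base ring in the sense of `Grp.IsLb`
-/

set_option autoImplicit false

universe u

namespace Groth.Agent.ResProp.EF.K494

open Groth.Agent.ResProp.EF.Grp

/-- the prime ideal `(p)` of `ℤ` -/
abbrev pI (p : ℕ) : Ideal ℤ := Ideal.span {(p : ℤ)}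

instance pI_prime (p : ℕ) [hp : Fact p.Prime] : (pI p).IsPrime :=
  (Ideal.span_singleton_prime (by exact_mod_cast hp.out.ne_zero)).mpr (Nat.prime_iff_prime_int.mp hp.out)

/-- `ℤ_(p)` -/
abbrev Zp (p : ℕ) [Fact p.Prime] : Type := Localization.AtPrime (pI p)

theorem mem_pI {p : ℕ} {n : ℤ} : n ∈ pI p ↔ (p : ℤ) ∣ n := Ideal.mem_span_singleton

section

variable (p : ℕ) [hp : Fact p.Prime]

theorem isUnit_map {n : ℤ} (hn : ¬ (p : ℤ) ∣ n) : IsUnit (algebraMap ℤ (Zp p) n) :=
  IsLocalization.map_units (Zp p) (⟨n, fun h => hn (mem_pI.mp h)⟩ : (pI p).primeCompl)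

theorem inj_map : Function.Injective (algebraMap ℤ (Zp p)) :=
  IsLocalization.injective (Zp p) (Ideal.primeCompl_le_nonZeroDivisors (pI p))

instance isLb_Zp : IsLb p (Zp p) where
  prime := hp.out
  dom := IsLocalization.isDomain_of_le_nonZeroDivisors (R := ℤ) (M := (pI p).primeCompl) (Zp p)
    (Ideal.primeCompl_le_nonZeroDivisors (pI p))
  char0 := by
    refine ⟨fun a b h => ?_⟩
    have : algebraMap ℤ (Zp p) (a : ℤ) = algebraMap ℤ (Zp p) (b : ℤ) := by simpa using h
    exact_mod_cast inj_map p this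
  pid := by
    refine ⟨fun I => ?_⟩
    have h : Ideal.map (algebraMap ℤ (Zp p)) (I.comap (algebraMap ℤ (Zp p))) = I :=
      IsLocalization.map_under (pI p).primeCompl (Zp p) I
    obtain ⟨n, hn⟩ := (IsPrincipalIdealRing.principal (I.comap (algebraMap ℤ (Zp p)))).principal
    have hn' : I.comap (algebraMap ℤ (Zp p)) = Ideal.span {n} := hn
    rw [hn', Ideal.map_span, Set.image_singleton] at h
    exact ⟨_, h.symm⟩
  not_unit := by
    intro h
    have h2 : algebraMap ℤ (Zp p) (p : ℤ) ∈ IsLocalRing.maximalIdeal (Zp p) := by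
      rw [← Localization.AtPrime.map_eq_maximalIdeal]
      exact Ideal.mem_map_of_mem _ (mem_pI.mpr dvd_rfl)
    have h3 : (p : Zp p) ∈ IsLocalRing.maximalIdeal (Zp p) := by simpa using h2
    exact (IsLocalRing.mem_maximalIdeal _).mp h3 h
  unit_of := by
    intro x hx
    by_contra hcon
    have h1 : x ∈ IsLocalRing.maximalIdeal (Zp p) := hcon
    rw [← Localization.AtPrime.map_eq_maximalIdeal, Ideal.map_span, Set.image_singleton,
      Ideal.mem_span_singleton] at h1
    exact hx (by simpa using h1)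
  res := by
    intro x
    obtain ⟨⟨a, s⟩, rfl⟩ := IsLocalization.mk'_surjective (pI p).primeCompl x |>.imp fun y h => h
    have hs : ¬ (p : ℤ) ∣ (s : ℤ) := fun h => s.2 (mem_pI.mpr h)
    have hco : IsCoprime (s : ℤ) (p : ℤ) :=
      ((Nat.prime_iff_prime_int.mp hp.out).coprime_iff_not_dvd.mpr hs).symm
    obtain ⟨u, v, huv⟩ := hco
    refine ⟨a * u, ?_⟩
    have hsu := isUnit_map p hs
    rw [← hsu.dvd_mul_left]
    have : algebraMap ℤ (Zp p) (s : ℤ) * (IsLocalization.mk' (Zp p) a s - ((a * u : ℤ) : Zp p)) =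
        (p : Zp p) * algebraMap ℤ (Zp p) (a * v) := by
      rw [mul_sub, IsLocalization.mk'_spec']
      have e1 : ((a * u : ℤ) : Zp p) = algebraMap ℤ (Zp p) (a * u) := by simp
      have e2 : (p : Zp p) = algebraMap ℤ (Zp p) (p : ℤ) := by simp
      rw [e1, e2, ← map_mul, ← map_mul, ← map_sub]
      congr 1
      linear_combination (-a) * huv
    rw [this]
    exact dvd_mul_right _ _

end

/-- transport along a ring isomorphism -/
theorem isLb_of_ringEquiv {p : ℕ} {k : Type*} {k' : Type*} [CommRing k] [CommRing k'] [h : IsLb p k]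
    (e : k ≃+* k') : IsLb p k' where
  prime := h.prime
  dom := by
    have := h.dom
    exact e.symm.injective.isDomain e.symm.toRingHom
  char0 := by
    have := h.char0
    exact ⟨fun a b hab => by
      have := congrArg e.symm hab
      simpa using this⟩
  pid := by
    have := h.pid
    exact IsPrincipalIdealRing.of_surjective e.toRingHom e.surjective
  not_unit := fun hu => h.not_unit (by simpa using hu.map e.symm)
  unit_of := by
    intro x hx
    have := h.unit_of (e.symm x) (fun hd => hx (by simpa using map_dvd e hd))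
    simpa using this.map e
  res := by
    intro x
    obtain ⟨n, hn⟩ := h.res (e.symm x)
    exact ⟨n, by simpa using map_dvd e hn⟩

/-- `ℤ_(p)` in any universe -/
abbrev ZpU (p : ℕ) [Fact p.Prime] : Type u := ULift.{u} (Zp p)

instance isLb_ZpU (p : ℕ) [Fact p.Prime] : IsLb p (ZpU.{u} p) := isLb_of_ringEquiv (ULift.ringEquiv (R := Zp p)).symm

end Groth.Agent.ResProp.EF.K494
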