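import Mathlib.LinearAlgebra.TensorProduct.RightExactness
import Mathlib.RingTheory.Flat.Basic
import Mathlib.CategoryTheory.Category.Basic

/-!
# Killing all classes of a small functor from killing the invariant ones (no infinite attaching)

`h` : a functor from a category `C` (complexes of comodules) to `A`-modules `M` with a "coaction" `ρ : M → M ⊗ G`
(`G = Γ`, `e = 1 : Γ`; any `A`-module `G` with an element `e`, any additive `ρ`) and operators (`P_S`).  `good` : a class of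
morphisms (fibre perfect, or with a lower Tor bound).  If every INVARIANT class (`ρ y = y ⊗ e`) is killed by a good map, good maps
compose and the kernels `ker h(f)`, `f` good, are directed, and `h(Y)` is small, then EVERY class is killed by a good map.
-/

set_option autoImplicit false

open TensorProduct CategoryTheory

namespace Groth.Agent.ResProp.EF.K494

universe u v w

section Mod

variable {A : Type u} [CommRing A] {G : Type v} [AddCommGroup G] [Module A G] (e : G)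
variable {M : Type w} [AddCommGroup M] [Module A M]

/-- the image of `L ⊗ G` in `M ⊗ G` -/
def img (G : Type v) [AddCommGroup G] [Module A G] (L : Submodule A M) : Submodule A (M ⊗[A] G) :=
  LinearMap.range (LinearMap.rTensor G L.subtype)

theorem img_mono {L L' : Submodule A M} (h : L ≤ L') : img G L ≤ img G L' := by
  rintro _ ⟨x, rfl⟩
  refine ⟨LinearMap.rTensor G (Submodule.inclusion h) x, ?_⟩
  rw [← LinearMap.comp_apply, ← LinearMap.rTensor_comp]
  rfl

theorem tmul_mem_img {L : Submodule A M} {m : M} (hm : m ∈ L) (g : G) : m ⊗ₜ[A] g ∈ img G L :=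
  ⟨(⟨m, hm⟩ : L) ⊗ₜ g, by simp⟩

/-- an element of `K ⊗ G`, `K` the union of a directed family, comes from one member. -/
theorem exists_mem_img {ι : Type*} [Nonempty ι] (S : ι → Submodule A M)
    (dir : ∀ i j, ∃ k, S i ≤ S k ∧ S j ≤ S k) (K : Submodule A M) (hK : ∀ m ∈ K, ∃ i, m ∈ S i)
    {z : M ⊗[A] G} (hz : z ∈ img G K) : ∃ i, z ∈ img G (S i) := by
  obtain ⟨x, rfl⟩ := hz
  induction x using TensorProduct.induction_on with
  | zero => exact ⟨Classical.arbitrary ι, by simp⟩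
  | tmul k g =>
    obtain ⟨i, hi⟩ := hK k.1 k.2
    exact ⟨i, by simpa using tmul_mem_img hi g⟩
  | add x y hx hy =>
    obtain ⟨i, hi⟩ := hx
    obtain ⟨j, hj⟩ := hy
    obtain ⟨k, hik, hjk⟩ := dir i j
    exact ⟨k, by rw [map_add]; exact add_mem (img_mono hik hi) (img_mono hjk hj)⟩

/-- a linear map killing `L` kills the image of `L ⊗ G` -/
theorem rTensor_eq_zero_of_mem_img {N : Type*} [AddCommGroup N] [Module A N] (f : M →ₗ[A] N) {L : Submodule A M}
    (hL : L ≤ LinearMap.ker f) {z : M ⊗[A] G} (hz : z ∈ img G L) : LinearMap.rTensor G f z = 0 := by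
  obtain ⟨x, rfl⟩ := hz
  rw [← LinearMap.comp_apply, ← LinearMap.rTensor_comp]
  have : f ∘ₗ L.subtype = 0 := by
    ext ⟨m, hm⟩
    exact hL hm
  rw [this]; simp

/-- conversely: `rTensor G (M → M/L)` has kernel `img G L` -/
theorem mem_img_iff (L : Submodule A M) (z : M ⊗[A] G) : z ∈ img G L ↔ LinearMap.rTensor G L.mkQ z = 0 := by
  constructor
  · exact fun h => rTensor_eq_zero_of_mem_img _ (by simp) h
  · intro h
    have ex : Function.Exact L.subtype L.mkQ := LinearMap.exact_subtype_mkQ L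
    have := rTensor_exact G ex L.mkQ_surjective
    obtain ⟨y, hy⟩ := (this z).mp h
    exact ⟨y, hy⟩

/-- a submodule stable under the coaction and under the operators -/
structure Stab (ρ : M →+ M ⊗[A] G) (ops : Set (M →ₗ[A] M)) (L : Submodule A M) : Prop where
  coact : ∀ m ∈ L, ρ m ∈ img G L
  op : ∀ φ ∈ ops, ∀ m ∈ L, φ m ∈ L

/-- kernels of natural maps are stable (`G` flat) -/
theorem stab_ker [Module.Flat A G] {N : Type*} [AddCommGroup N] [Module A N] {ρ : M →+ M ⊗[A] G}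
    {ρ' : N →+ N ⊗[A] G} {ops : Set (M →ₗ[A] M)} (f : M →ₗ[A] N)
    (hρ : ∀ m, ρ' (f m) = LinearMap.rTensor G f (ρ m))
    (hops : ∀ φ ∈ ops, ∃ φ' : N →+ N, ∀ m, f (φ m) = φ' (f m)) : Stab ρ ops (LinearMap.ker f) := by
  constructor
  · intro m hm
    have ex : Function.Exact (LinearMap.ker f).subtype f := by
      intro x
      constructor
      · exact fun hx => ⟨⟨x, hx⟩, rfl⟩
      · rintro ⟨y, rfl⟩; exact y.2
    have := Module.Flat.rTensor_exact G ex
    have h0 : LinearMap.rTensor G f (ρ m) = 0 := by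
      rw [← hρ, LinearMap.mem_ker.mp hm, map_zero]
    obtain ⟨y, hy⟩ := (this _).mp h0
    exact ⟨y, hy⟩
  · intro φ hφ m hm
    obtain ⟨φ', hφ'⟩ := hops φ hφ
    rw [LinearMap.mem_ker, hφ', LinearMap.mem_ker.mp hm, map_zero]

/-- `x` is invariant modulo `L` -/
def InvMod (ρ : M →+ M ⊗[A] G) (L : Submodule A M) (x : M) : Prop := ρ x - x ⊗ₜ[A] e ∈ img G L

/-- smallness, in the form in which it is used: a stable submodule `L` such that `M/L` has no non-zero invariants is everything -/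
def Sm (ρ : M →+ M ⊗[A] G) (ops : Set (M →ₗ[A] M)) : Prop :=
  ∀ L : Submodule A M, Stab ρ ops L → (∀ x, InvMod e ρ L x → x ∈ L) → L = ⊤

/-- smallness from a finite filtration: `F 0 = ⊤`, `F n = ⊥`, `F` stable, and for every stable `L` with
`F (i+1) ≤ L`, `¬ F i ≤ L` there is an element of `F i`, not in `L`, invariant modulo `L ⊓ F i`. -/
theorem Sm.of_filtration {ρ : M →+ M ⊗[A] G} {ops : Set (M →ₗ[A] M)} (F : ℕ → Submodule A M) (n : ℕ)
    (h0 : F 0 = ⊤) (hn : F n = ⊥)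
    (piece : ∀ i, ∀ L, Stab ρ ops L → F (i + 1) ≤ L → ¬ F i ≤ L → ∃ x ∈ F i, x ∉ L ∧ InvMod e ρ L x) :
    Sm e ρ ops := by
  intro L hL hinv
  have key : ∀ k, k ≤ n → F (n - k) ≤ L := by
    intro k
    induction k with
    | zero => intro _; rw [Nat.sub_zero, hn]; exact bot_le
    | succ k ih =>
      intro hk
      by_contra hcon
      have h1 : n - (k + 1) + 1 = n - k := by omega
      obtain ⟨x, -, hxL, hx⟩ := piece (n - (k + 1)) L hL (by rw [h1]; exact ih (by omega)) hcon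
      exact hxL (hinv x hx)
  have := key n le_rfl
  rw [Nat.sub_self, h0] at this
  exact top_le_iff.mp this

end Mod

/-- the data: a functor with values in modules with a coaction and operators, and a class of good maps. -/
structure HitData (A : Type u) [CommRing A] (G : Type v) [AddCommGroup G] [Module A G] (e : G)
    (C : Type*) [Category C] where
  h : C → Type w
  [grp : ∀ Y, AddCommGroup (h Y)]
  [mod : ∀ Y, Module A (h Y)]
  map : ∀ {Y Y' : C}, (Y ⟶ Y') → (h Y →ₗ[A] h Y')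
  ρ : ∀ Y, h Y →+ h Y ⊗[A] G
  ops : ∀ Y, Set (h Y →ₗ[A] h Y)
  good : ∀ {Y Y' : C}, (Y ⟶ Y') → Prop
  /-- naturality -/
  map_comp : ∀ {Y Y' Y'' : C} (f : Y ⟶ Y') (g : Y' ⟶ Y'') (y : h Y), map (f ≫ g) y = map g (map f y)
  map_ρ : ∀ {Y Y' : C} (f : Y ⟶ Y') (y : h Y), ρ Y' (map f y) = LinearMap.rTensor G (map f) (ρ Y y)
  /-- kernels of good maps are stable -/
  ker_stab : ∀ {Y Y' : C} (f : Y ⟶ Y'), good f → Stab (ρ Y) (ops Y) (LinearMap.ker (map f))
  good_id : ∀ Y : C, ∃ (Y' : C) (f : Y ⟶ Y'), good f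
  good_comp : ∀ {Y Y' Y'' : C} (f : Y ⟶ Y') (g : Y' ⟶ Y''), good f → good g → good (f ≫ g)
  /-- directedness -/
  dir : ∀ {Y Y₁ Y₂ : C} (f₁ : Y ⟶ Y₁) (f₂ : Y ⟶ Y₂), good f₁ → good f₂ →
    ∃ (Y₃ : C) (f₃ : Y ⟶ Y₃), good f₃ ∧ LinearMap.ker (map f₁) ≤ LinearMap.ker (map f₃) ∧
      LinearMap.ker (map f₂) ≤ LinearMap.ker (map f₃)

namespace HitData

variable {A : Type u} [CommRing A] {G : Type v} [AddCommGroup G] [Module A G] {e : G} {C : Type*} [Category C]
variable (D : HitData.{u, v, w} A G e C)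

attribute [instance] HitData.grp HitData.mod

/-- **every class is killed by a good map** as soon as every invariant class is and the functor is small. -/
theorem killed (small : ∀ Y, Sm e (D.ρ Y) (D.ops Y))
    (hit : ∀ (Y : C) (y : D.h Y), D.ρ Y y = y ⊗ₜ[A] e → ∃ (Y' : C) (f : Y ⟶ Y'), D.good f ∧ D.map f y = 0)
    (Y : C) (y : D.h Y) : ∃ (Y' : C) (f : Y ⟶ Y'), D.good f ∧ D.map f y = 0 := by
  classical
  let ι := Σ' (Y' : C) (f : Y ⟶ Y'), PLift (D.good f)
  obtain ⟨Y₀, f₀, hf₀⟩ := D.good_id Y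
  have : Nonempty ι := ⟨⟨Y₀, f₀, ⟨hf₀⟩⟩⟩
  let S : ι → Submodule A (D.h Y) := fun i => LinearMap.ker (D.map i.2.1)
  have dir : ∀ i j : ι, ∃ k : ι, S i ≤ S k ∧ S j ≤ S k := by
    rintro ⟨Y₁, f₁, ⟨h₁⟩⟩ ⟨Y₂, f₂, ⟨h₂⟩⟩
    obtain ⟨Y₃, f₃, h₃, a, b⟩ := D.dir f₁ f₂ h₁ h₂
    exact ⟨⟨Y₃, f₃, ⟨h₃⟩⟩, a, b⟩
  let K : Submodule A (D.h Y) :=
    { carrier := {m | ∃ i, m ∈ S i}
      add_mem' := by
        rintro a b ⟨i, hi⟩ ⟨j, hj⟩
        obtain ⟨k, hik, hjk⟩ := dir i j
        exact ⟨k, add_mem (hik hi) (hjk hj)⟩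
      zero_mem' := ⟨Classical.arbitrary ι, zero_mem _⟩
      smul_mem' := by
        rintro c x ⟨i, hi⟩
        exact ⟨i, Submodule.smul_mem _ c hi⟩ }
  have hSK : ∀ i, S i ≤ K := fun i m hm => ⟨i, hm⟩
  have stab : Stab (D.ρ Y) (D.ops Y) K := by
    constructor
    · rintro m ⟨i, hi⟩
      exact img_mono (hSK i) ((D.ker_stab i.2.1 i.2.2.down).coact m hi)
    · rintro φ hφ m ⟨i, hi⟩
      exact ⟨i, (D.ker_stab i.2.1 i.2.2.down).op φ hφ m hi⟩
  have top : K = ⊤ := by
    refine small Y K stab fun x hx => ?_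
    obtain ⟨i, hi⟩ := exists_mem_img S dir K (fun m hm => hm) hx
    obtain ⟨Y₁, f₁, ⟨h₁⟩⟩ := i
    have h0 := rTensor_eq_zero_of_mem_img (D.map f₁) (L := LinearMap.ker (D.map f₁)) le_rfl hi
    rw [map_sub, ← D.map_ρ, LinearMap.rTensor_tmul, sub_eq_zero] at h0
    obtain ⟨Y₂, f₂, h₂, hz⟩ := hit Y₁ (D.map f₁ x) h0
    exact ⟨⟨Y₂, f₁ ≫ f₂, ⟨D.good_comp _ _ h₁ h₂⟩⟩, by
      show D.map (f₁ ≫ f₂) x = 0
      rw [D.map_comp, hz]⟩
  have hy : y ∈ K := top ▸ Submodule.mem_top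
  obtain ⟨⟨Y', f, ⟨hf⟩⟩, hi⟩ := hy
  exact ⟨Y', f, hf, hi⟩

end HitData

end Groth.Agent.ResProp.EF.K494
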